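import Mathlib

/-!
Substituting monic polynomials for the variables: flatness, and the regular sequence.
-/

set_option autoImplicit false

universe u

open Polynomial RingTheory.Sequence

namespace Groth.Agent.CMSliceLib

theorem flat_aeval_monic {R : Type u} [CommRing R] (P : R[X]) (hP : P.Monic) (hd : 0 < P.natDegree) :
    (aeval P : R[X] →ₐ[R] R[X]).toRingHom.Flat := by
  haveI : Nontrivial R := by
    rcases subsingleton_or_nontrivial R with h | h
    · exact absurd hd (by simp [Subsingleton.elim P 0])
    · exact h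
  let Q : R[X][X] := P.map C - C X
  have hQ : Q.Monic := (hP.map C).sub_of_left (degree_C_le.trans_lt (by
    rw [hP.degree_map, degree_eq_natDegree hP.ne_zero]
    exact_mod_cast hd))
  haveI : Module.Free R[X] (AdjoinRoot Q) := Module.Free.of_basis (AdjoinRoot.powerBasis' hQ).basis
  let f : R[X] →+* R[X] := (aeval P : R[X] →ₐ[R] R[X]).toRingHom
  have h0 : Q.eval₂ f X = 0 := by
    simp only [Q, eval₂_sub, eval₂_C]
    rw [eval₂_map, sub_eq_zero]
    show P.eval₂ _ X = aeval P (X : R[X])
    rw [aeval_X, show f.comp C = C from RingHom.ext fun a => aeval_C P a]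
    exact eval₂_C_X
  let ψ : AdjoinRoot Q →+* R[X] := AdjoinRoot.lift f X h0
  let χ : R[X] →+* AdjoinRoot Q := eval₂RingHom ((algebraMap R[X] (AdjoinRoot Q)).comp C) (AdjoinRoot.root Q)
  have hχP : χ P = algebraMap R[X] (AdjoinRoot Q) X := by
    have h := AdjoinRoot.eval₂_root Q
    simp only [Q, eval₂_sub, eval₂_map, eval₂_C, sub_eq_zero] at h
    exact h
  have h1 : ψ.comp χ = RingHom.id _ := by
    refine Polynomial.ringHom_ext (fun a => ?_) ?_
    · simp [χ, ψ, f]
    · simp [χ, ψ]
  have h2 : χ.comp ψ = RingHom.id _ := by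
    refine Ideal.Quotient.ringHom_ext (Polynomial.ringHom_ext (fun p => ?_) ?_)
    · show χ (ψ (AdjoinRoot.of Q p)) = AdjoinRoot.of Q p
      simp only [ψ, AdjoinRoot.lift_of]
      have : χ.comp f = algebraMap R[X] (AdjoinRoot Q) := by
        refine Polynomial.ringHom_ext (fun a => ?_) ?_
        · simp [χ, f]
        · simpa [f] using hχP
      exact RingHom.congr_fun this p
    · show χ (ψ (AdjoinRoot.root Q)) = AdjoinRoot.root Q
      simp [χ, ψ]
  have hψ : Function.Bijective ψ :=
    ⟨Function.LeftInverse.injective (g := χ) fun z => RingHom.congr_fun h2 z,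
      Function.RightInverse.surjective (g := χ) fun z => RingHom.congr_fun h1 z⟩
  have he : f = ψ.comp (algebraMap R[X] (AdjoinRoot Q)) := RingHom.ext fun p => by
    show f p = ψ (AdjoinRoot.of Q p)
    simp [ψ]
  show f.Flat
  rw [he]
  exact (RingHom.flat_algebraMap_iff.2 inferInstance).comp (RingHom.Flat.of_bijective hψ)

theorem flat_mapRingHom {R S : Type u} [CommRing R] [CommRing S] (f : R →+* S) (hf : f.Flat) :
    (mapRingHom f).Flat := by
  algebraize [f]
  letI := Polynomial.algebra R S
  show (algebraMap R[X] S[X]).Flat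
  rw [RingHom.flat_algebraMap_iff]
  haveI : Module.Flat R S := hf
  exact Module.Flat.isBaseChange R R[X] S S[X] (Algebra.IsPushout.out (R := R) (S := R[X]) (R' := S) (S' := S[X]))

/-- Replacing each variable by a monic polynomial in it is flat. -/
theorem flat_aeval : ∀ (n : ℕ) {A : Type u} [CommRing A] (P : Fin n → A[X]),
    (∀ i, (P i).Monic ∧ 0 < (P i).natDegree) →
      (MvPolynomial.aeval (R := A) fun i => aeval (MvPolynomial.X i : MvPolynomial (Fin n) A) (P i)).toRingHom.Flat := by
  intro n
  induction n with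
  | zero =>
    intro A _ P _
    refine RingHom.Flat.of_bijective ?_
    rw [show (MvPolynomial.aeval (R := A) fun i => aeval (MvPolynomial.X i : MvPolynomial (Fin 0) A) (P i)).toRingHom =
      RingHom.id _ from MvPolynomial.ringHom_ext (fun a => MvPolynomial.aeval_C _ a) (fun i => i.elim0)]
    exact Function.bijective_id
  | succ n ih =>
    intro A _ P hP
    let φ := (MvPolynomial.aeval (R := A) fun i : Fin n => aeval (MvPolynomial.X i : MvPolynomial (Fin n) A) (P i.succ))
    let e := MvPolynomial.finSuccEquiv A n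
    let P₀ : (MvPolynomial (Fin n) A)[X] := (P 0).map MvPolynomial.C
    rcases subsingleton_or_nontrivial A with hA | hA
    · exact absurd (hP 0).2 (by simp [Subsingleton.elim (P 0) 0])
    have h₁ : (aeval P₀ : (MvPolynomial (Fin n) A)[X] →ₐ[MvPolynomial (Fin n) A] _).toRingHom.Flat :=
      flat_aeval_monic P₀ ((hP 0).1.map _) (by rw [(hP 0).1.natDegree_map]; exact (hP 0).2)
    have h₂ := flat_mapRingHom φ.toRingHom (ih (fun i => P i.succ) fun i => hP i.succ)
    have hall : (e.symm.toRingEquiv.toRingHom.comp (((aeval P₀ : (MvPolynomial (Fin n) A)[X] →ₐ[MvPolynomial (Fin n) A] _).toRingHom.comp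
        (mapRingHom φ.toRingHom)).comp e.toRingEquiv.toRingHom)).Flat :=
      ((RingHom.Flat.of_bijective e.bijective).comp (h₂.comp h₁)).comp (RingHom.Flat.of_bijective e.symm.bijective)
    refine (show _ = (MvPolynomial.aeval (R := A) fun i : Fin (n + 1) => aeval (MvPolynomial.X i : MvPolynomial (Fin (n + 1)) A) (P i)).toRingHom
      from MvPolynomial.ringHom_ext (fun a => ?_) fun i => ?_) ▸ hall
    · show e.symm (aeval P₀ ((e (MvPolynomial.C a)).map φ.toRingHom)) = MvPolynomial.aeval _ (MvPolynomial.C a)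
      rw [MvPolynomial.aeval_C, ← MvPolynomial.algebraMap_eq, e.commutes]
      rw [IsScalarTower.algebraMap_apply A (MvPolynomial (Fin n) A) ((MvPolynomial (Fin n) A)[X]),
        ← Polynomial.C_eq_algebraMap, Polynomial.map_C, aeval_C]
      show e.symm (algebraMap _ _ (φ (algebraMap A _ a))) = _
      rw [φ.commutes, ← IsScalarTower.algebraMap_apply, e.symm.commutes]
    · show e.symm (aeval P₀ ((e (MvPolynomial.X i)).map φ.toRingHom)) = MvPolynomial.aeval _ (MvPolynomial.X i)
      rw [MvPolynomial.aeval_X]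
      refine e.injective ?_
      refine (e.apply_symm_apply _).trans (Eq.trans ?_ (aeval_algHom_apply e.toAlgHom _ _))
      refine Fin.cases ?_ (fun j => ?_) i
      · show aeval P₀ ((e (MvPolynomial.X 0)).map φ.toRingHom) = aeval (e (MvPolynomial.X 0)) (P 0)
        rw [MvPolynomial.finSuccEquiv_X_zero, Polynomial.map_X, aeval_X, aeval_def,
          IsScalarTower.algebraMap_eq A (MvPolynomial (Fin n) A) ((MvPolynomial (Fin n) A)[X]),
          ← eval₂_map, MvPolynomial.algebraMap_eq]
        exact eval₂_C_X.symm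
      · show aeval P₀ ((e (MvPolynomial.X j.succ)).map φ.toRingHom) = aeval (e (MvPolynomial.X j.succ)) (P j.succ)
        rw [MvPolynomial.finSuccEquiv_X_succ, Polynomial.map_C, aeval_C]
        show algebraMap _ _ (φ (MvPolynomial.X j)) = _
        rw [MvPolynomial.aeval_X, ← aeval_algebraMap_apply]
        rfl

/-- The variables form a weakly regular sequence. -/
theorem isWeaklyRegular_X (A : Type u) [CommRing A] (N : ℕ) :
    IsWeaklyRegular (MvPolynomial (Fin N) A) (List.ofFn fun i : Fin N => (MvPolynomial.X i : MvPolynomial (Fin N) A)) := by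
  classical
  rw [isWeaklyRegular_iff]
  intro i hi
  have hi' : i < N := by simpa using hi
  rw [List.getElem_ofFn]
  set j : Fin N := ⟨i, hi'⟩
  have hset : Ideal.ofList ((List.ofFn fun i : Fin N => (MvPolynomial.X i : MvPolynomial (Fin N) A)).take i) =
      Ideal.span (MvPolynomial.X '' {l : Fin N | (l : ℕ) < i}) := by
    unfold Ideal.ofList
    congr 1
    ext x
    simp only [List.mem_take_iff_getElem, Set.mem_image, Set.mem_setOf_eq, List.getElem_ofFn]
    constructor
    · rintro ⟨l, hl, rfl⟩
      simp only [List.length_ofFn, lt_min_iff] at hl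
      exact ⟨⟨l, hl.2⟩, hl.1, rfl⟩
    · rintro ⟨l, hl, rfl⟩
      exact ⟨l.1, by simp [hl, l.2], rfl⟩
  rw [isSMulRegular_quotient_iff_mem_of_smul_mem]
  intro p hp
  simp only [smul_eq_mul, Ideal.mul_top, hset] at hp ⊢
  rw [MvPolynomial.mem_ideal_span_X_image] at hp ⊢
  intro d hd
  obtain ⟨l, hl, hl0⟩ := hp (Finsupp.single j 1 + d) (by
    rw [MvPolynomial.mem_support_iff] at hd ⊢
    rwa [MvPolynomial.coeff_X_mul])
  refine ⟨l, hl, ?_⟩
  have hlj : j ≠ l := fun e => by
    have : (j : ℕ) = (l : ℕ) := congrArg Fin.val e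
    have h' : (l : ℕ) < i := hl
    simp [j] at this
    omega
  rwa [Finsupp.add_apply, Finsupp.single_eq_of_ne (Ne.symm hlj), zero_add] at hl0

end Groth.Agent.CMSliceLib
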