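import Groth.Agent.CMSliceLib.Slice

/-!
Choosing the slice and shrinking it around the point.
-/

set_option autoImplicit false

universe u

open TensorProduct RingTheory.Sequence

namespace Groth.Agent.CMSliceLib

theorem under_away {B : Type u} [CommRing B] (g : B) {P : Ideal B} [P.IsPrime] (hg : g ∉ P) :
    (P.map (algebraMap B (Localization.Away g))).IsPrime ∧
      (P.map (algebraMap B (Localization.Away g))).under B = P := by
  have hdisj : Disjoint (Submonoid.powers g : Set B) (P : Set B) := Set.disjoint_left.2 fun _ hz hzP => by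
    obtain ⟨k, rfl⟩ := hz
    exact hg (‹P.IsPrime›.mem_of_pow_mem k hzP)
  exact ⟨IsLocalization.isPrime_of_isPrime_disjoint (Submonoid.powers g) _ _ ‹_› hdisj,
    IsLocalization.under_map_of_isPrime_disjoint (Submonoid.powers g) (Localization.Away g) ‹_› hdisj⟩

theorem exists_slice {A B : Type u} [CommRing A] [CommRing B] [Algebra A B] [Algebra.FiniteType A B]
    (p : Ideal A) [p.IsPrime] (q : Ideal B) [q.IsPrime] [q.LiesOver p] (Q : PrimeSpectrum (p.Fiber B))
    (hQ : Q.asIdeal.comap (Algebra.TensorProduct.includeRight : B →ₐ[A] p.Fiber B).toRingHom = q)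
    (hmax : Q.asIdeal.IsMaximal) {n : ℕ} (φ : MvPolynomial (Fin n) A →ₐ[A] B) (g : B) (hg : g ∉ q)
    (hP : ∀ P : PrimeSpectrum B, g ∉ P.asIdeal →
      letI := φ.toRingHom.toAlgebra
      Algebra.QuasiFiniteAt (MvPolynomial (Fin n) A) P.asIdeal ∧
        Module.Flat (MvPolynomial (Fin n) A) (Localization.AtPrime P.asIdeal)) :
    ∃ (g' : B) (rs : List B), g' ∉ q ∧ (∀ r ∈ rs, r ∈ q) ∧
      IsWeaklyRegular (Localization.Away g') (rs.map (algebraMap B (Localization.Away g'))) ∧
      Module.Flat A (Localization.Away g' ⧸ Ideal.ofList (rs.map (algebraMap B (Localization.Away g')))) ∧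
      Algebra.QuasiFinite A (Localization.Away g' ⧸ Ideal.ofList (rs.map (algebraMap B (Localization.Away g')))) ∧
      ∀ P : PrimeSpectrum B, g' ∉ P.asIdeal → (∀ r ∈ rs, r ∈ P.asIdeal) → P.asIdeal.under A = p → P.asIdeal = q := by
  classical
  choose a R ha hR hd hmem using fun i : Fin n => exists_monic_mem p q Q hQ hmax (φ (MvPolynomial.X i))
  let rs : List B := List.ofFn fun i => Polynomial.aeval (algebraMap A B (a i) * φ (MvPolynomial.X i)) (R i)
  let g₁ : B := g * ∏ i, algebraMap A B (a i)
  have hg₁ : g₁ ∉ q := fun h => (‹q.IsPrime›.mem_or_mem h).elim hg fun h => by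
    obtain ⟨i, -, hi⟩ := (‹q.IsPrime›.prod_mem_iff).1 h
    exact ha i ((q.over_def p).ge hi)
  have hrs : ∀ r ∈ rs, r ∈ q := fun r hr => by
    obtain ⟨i, rfl⟩ := List.mem_ofFn.1 hr
    exact hmem i
  letI := φ.toRingHom.toAlgebra
  haveI : IsScalarTower A (MvPolynomial (Fin n) A) B := .of_algebraMap_eq fun r => (φ.commutes r).symm
  haveI : Algebra.FiniteType (MvPolynomial (Fin n) A) B := Algebra.FiniteType.of_restrictScalars_finiteType A _ _
  have key : ∀ g' : B, g₁ ∣ g' →
      IsWeaklyRegular (Localization.Away g') (rs.map (algebraMap B (Localization.Away g'))) ∧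
      Module.Flat A (Localization.Away g' ⧸ Ideal.ofList (rs.map (algebraMap B (Localization.Away g')))) ∧
      Algebra.QuasiFinite A (Localization.Away g' ⧸ Ideal.ofList (rs.map (algebraMap B (Localization.Away g')))) := by
    intro g' hg'
    have hgg : ∀ P : Ideal B, g' ∉ P → g ∉ P := fun P h hgP => by
      obtain ⟨d, rfl⟩ := (dvd_mul_right g _).trans hg'
      exact h (P.mul_mem_right _ hgP)
    haveI := CMFlatLib.quasiFinite_away (T := MvPolynomial (Fin n) A) g' fun P _ h => (hP ⟨P, inferInstance⟩ (hgg P h)).1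
    haveI : Module.Flat (MvPolynomial (Fin n) A) (Localization.Away g') := by
      refine CMFlatLib.flat_of_localizations fun P _ => ?_
      have hgP : g' ∉ P.under B := fun hm => (Ideal.IsMaximal.ne_top ‹_›)
        (P.eq_top_of_isUnit_mem hm (IsLocalization.Away.algebraMap_isUnit g'))
      haveI : (P.under B).IsPrime := Ideal.IsPrime.comap _
      haveI := (hP ⟨P.under B, inferInstance⟩ (hgg _ hgP)).2
      haveI := IsLocalization.isLocalization_isLocalization_atPrime_isLocalization (Submonoid.powers g')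
        (Localization.AtPrime P) P
      exact Module.Flat.of_linearEquiv
        ((IsLocalization.algEquiv (P.under B).primeCompl (Localization.AtPrime P)
          (Localization.AtPrime (P.under B))).restrictScalars (MvPolynomial (Fin n) A)).toLinearEquiv
    let y : Fin n → Localization.Away g' := fun i => algebraMap B _ (φ (MvPolynomial.X i))
    have hy : (MvPolynomial.aeval (R := A) y).toRingHom = algebraMap (MvPolynomial (Fin n) A) (Localization.Away g') := by
      refine MvPolynomial.ringHom_ext (fun r => ?_) fun i => ?_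
      · show MvPolynomial.aeval y (MvPolynomial.C r) = _
        rw [MvPolynomial.aeval_C, ← MvPolynomial.algebraMap_eq, ← IsScalarTower.algebraMap_apply]
      · show MvPolynomial.aeval y (MvPolynomial.X i) = _
        rw [MvPolynomial.aeval_X, IsScalarTower.algebraMap_apply (MvPolynomial (Fin n) A) B (Localization.Away g')]
        rfl
    have hu : ∀ i, IsUnit (algebraMap A (Localization.Away g') (a i)) := fun i => by
      rw [IsScalarTower.algebraMap_apply A B (Localization.Away g')]
      exact isUnit_of_dvd_unit ((algebraMap B (Localization.Away g')).map_dvd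
        (((Finset.dvd_prod_of_mem _ (Finset.mem_univ i)).trans (dvd_mul_left _ g)).trans hg'))
        (IsLocalization.Away.algebraMap_isUnit g')
    have h := slice y a R (fun i => ⟨hR i, hd i⟩) hu (hy ▸ RingHom.flat_algebraMap_iff.2 inferInstance)
      (hy ▸ RingHom.quasiFinite_algebraMap.2 inferInstance)
    have hl : rs.map (algebraMap B (Localization.Away g')) =
        List.ofFn fun i => Polynomial.aeval (algebraMap A (Localization.Away g') (a i) * y i) (R i) := by
      rw [List.map_ofFn]
      refine congrArg List.ofFn (funext fun i => ?_)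
      simp only [Function.comp_apply]
      rw [← Polynomial.aeval_algebraMap_apply, map_mul, ← IsScalarTower.algebraMap_apply]
    rw [hl]
    exact h
  let B₁ := Localization.Away g₁
  let J : Ideal B₁ := Ideal.ofList (rs.map (algebraMap B B₁))
  haveI : Algebra.QuasiFinite A (B₁ ⧸ J) := (key g₁ dvd_rfl).2.2
  let ι : B →+* B₁ ⧸ J := (Ideal.Quotient.mk J).comp (algebraMap B B₁)
  have hι : ∀ (P : Ideal B), P.IsPrime → g₁ ∉ P → (∀ r ∈ rs, r ∈ P) → ∃ u : PrimeSpectrum (B₁ ⧸ J), u.asIdeal.comap ι = P := by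
    intro P _ hgP hrP
    obtain ⟨h1, h2⟩ := under_away g₁ hgP
    have hJ : J ≤ P.map (algebraMap B B₁) := Ideal.span_le.2 fun z hz => by
      obtain ⟨r, hr, rfl⟩ := List.mem_map.1 hz
      exact Ideal.mem_map_of_mem _ (hrP r hr)
    haveI := h1
    refine ⟨⟨(P.map (algebraMap B B₁)).map (Ideal.Quotient.mk J),
      Ideal.map_isPrime_of_surjective Ideal.Quotient.mk_surjective (by rwa [Ideal.mk_ker])⟩, ?_⟩
    show Ideal.comap ((Ideal.Quotient.mk J).comp (algebraMap B B₁)) _ = P
    rw [← Ideal.comap_comap, Ideal.comap_map_of_surjective _ Ideal.Quotient.mk_surjective,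
      ← RingHom.ker_eq_comap_bot, Ideal.mk_ker, sup_eq_left.2 hJ]
    exact h2
  have hmono : ∀ u v : PrimeSpectrum (B₁ ⧸ J), u.asIdeal.comap ι ≤ v.asIdeal.comap ι → u.asIdeal ≤ v.asIdeal := by
    intro u v h
    rw [← Ideal.comap_comap, ← Ideal.comap_comap] at h
    have h' := Ideal.map_mono (f := algebraMap B B₁) h
    rw [IsLocalization.map_comap (Submonoid.powers g₁), IsLocalization.map_comap (Submonoid.powers g₁)] at h'
    exact (Ideal.comap_le_comap_iff_of_surjective _ Ideal.Quotient.mk_surjective _ _).1 h'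
  have hover : ∀ u : PrimeSpectrum (B₁ ⧸ J), (u.asIdeal.comap ι).under A = u.asIdeal.under A := fun u => by
    show Ideal.comap (algebraMap A B) (Ideal.comap ι u.asIdeal) = Ideal.comap (algebraMap A (B₁ ⧸ J)) u.asIdeal
    rw [Ideal.comap_comap]
    rfl
  have hfin : {u : PrimeSpectrum (B₁ ⧸ J) | u.asIdeal.under A = p ∧ u.asIdeal.comap ι ≠ q}.Finite :=
    (Algebra.QuasiFinite.finite_comap_preimage_singleton (R := A) (S := B₁ ⧸ J) ⟨p, ‹_›⟩).subset
      fun u hu => PrimeSpectrum.ext hu.1
  obtain ⟨v, hv⟩ := hι q ‹_› hg₁ hrs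
  have hex : ∀ u ∈ hfin.toFinset, ∃ z ∈ u.asIdeal.comap ι, z ∉ q := by
    intro u hu
    obtain ⟨hu1, hu2⟩ := hfin.mem_toFinset.1 hu
    by_contra! hcon
    refine hu2 ?_
    have hle : u.asIdeal ≤ v.asIdeal := hmono u v (by rw [hv]; exact hcon)
    have he : u.asIdeal = v.asIdeal := Algebra.QuasiFinite.eq_of_le_of_under_eq (R := A) u.asIdeal v.asIdeal hle
      (hu1.trans (((q.over_def p).trans (congrArg (Ideal.under A) hv.symm)).trans (hover v)))
    rw [he, hv]
  choose z hz hzq using hex
  let g' : B := g₁ * ∏ u ∈ hfin.toFinset.attach, z u.1 u.2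
  refine ⟨g', rs, fun h => (‹q.IsPrime›.mem_or_mem h).elim hg₁ fun h => ?_, hrs, (key g' (dvd_mul_right _ _)).1,
    (key g' (dvd_mul_right _ _)).2.1, (key g' (dvd_mul_right _ _)).2.2, fun P hgP hrP hPp => ?_⟩
  · obtain ⟨u, -, hu⟩ := (‹q.IsPrime›.prod_mem_iff).1 h
    exact hzq u.1 u.2 hu
  · obtain ⟨u, hu⟩ := hι P.asIdeal P.isPrime (fun h => hgP (P.asIdeal.mul_mem_right _ h)) hrP
    by_contra hne
    have humem : u ∈ hfin.toFinset := hfin.mem_toFinset.2
      ⟨(hover u).symm.trans ((congrArg (Ideal.under A) hu).trans hPp), fun h => hne (hu.symm.trans h)⟩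
    refine hgP (P.asIdeal.mul_mem_left _ (Ideal.mem_of_dvd _
      (Finset.dvd_prod_of_mem _ (Finset.mem_attach _ ⟨u, humem⟩)) ?_))
    exact hu.le (hz u humem)

end Groth.Agent.CMSliceLib
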