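import Groth.Agent.CMSliceLib.Choose
import Groth.Prelude.Def_Mor2
import Groth.Agent.CMFlatLib.Locus
import Groth.Agent.EtaleSplit.Point

/-!
Flat quasi-finite quasi-sections of flat morphisms locally of finite presentation.
-/

set_option autoImplicit false

universe u

open CategoryTheory AlgebraicGeometry Limits TopologicalSpace

namespace Groth.Agent.CMSliceLib

open FlatMor in
theorem exists_slice_scheme {X S : Scheme.{u}} (f : X ⟶ S) [LocallyOfFinitePresentation f] (x : X)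
    (hcm : MoreMor.IsCMAt f x) (hcl : IsClosed ({f.asFiber x} : Set ↑(f.fiber (f x)))) :
    ∃ (V : X.Opens) (Z : Scheme.{u}) (i : Z ⟶ (V : Scheme.{u})), Mor2.IsRegularClosedImmersion i ∧ x ∈ Set.range ⇑(i ≫ V.ι) ∧
      Flat (i ≫ V.ι ≫ f) ∧ LocallyOfFinitePresentation (i ≫ V.ι ≫ f) ∧ LocallyQuasiFinite (i ≫ V.ι ≫ f) ∧
      ∀ z : Z, f (V.ι (i z)) = f x → V.ι (i z) = x := by
  haveI : LocallyOfFiniteType f := inferInstance
  obtain ⟨n, hn⟩ := Groth.Agent.CMFlatLib.exists_nat_fibreDimAt f x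
  obtain ⟨c, φ, g, hg, hP⟩ := Groth.Agent.CMFlatLib.exists_chart_flat f x n hcm hn
  haveI := Groth.Agent.CMFlatLib.chart_finitePresentation c
  have hmax : c.Q.asIdeal.IsMaximal := by
    obtain ⟨G, hG, hGQ⟩ := c.exists_fibre_embedding
    refine (PrimeSpectrum.isClosed_singleton_iff_isMaximal c.Q).1 ?_
    have h : G ⁻¹' {f.asFiber x} = ({c.Q} : Set _) := by
      rw [← hGQ]
      exact Set.eq_singleton_iff_unique_mem.2 ⟨rfl, fun z hz => hG.injective hz⟩
    exact h ▸ hcl.preimage hG.continuous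
  obtain ⟨g', rs, hg', hrs, hreg, hflat, hqf, honly⟩ :=
    Groth.Agent.CMSliceLib.exists_slice c.p.asIdeal c.q.asIdeal c.Q c.comap_Q hmax φ g hg hP
  let B₂ := Localization.Away g'
  let rs₂ : List B₂ := rs.map (algebraMap c.B B₂)
  let D := B₂ ⧸ Ideal.ofList rs₂
  haveI : Algebra.FinitePresentation c.A D := by
    haveI : Algebra.FinitePresentation c.B B₂ := IsLocalization.Away.finitePresentation g'
    haveI : Algebra.FinitePresentation c.A B₂ := Algebra.FinitePresentation.trans c.A c.B B₂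
    refine Algebra.FinitePresentation.quotient (Submodule.fg_def.2 ⟨{z | z ∈ rs₂}, List.finite_toSet _, rfl⟩)
  let a : Spec (CommRingCat.of B₂) ⟶ Spec (CommRingCat.of c.B) := Spec.map (CommRingCat.ofHom (algebraMap c.B B₂))
  haveI : IsOpenImmersion a := IsOpenImmersion.of_isLocalization g'
  let V := (a ≫ c.j).opensRange
  let e := (a ≫ c.j).isoOpensRange
  haveI : IsAffine (V : Scheme.{u}) := IsAffine.of_isIso e.inv
  let m : Spec (CommRingCat.of D) ⟶ Spec (CommRingCat.of B₂) := Spec.map (CommRingCat.ofHom (Ideal.Quotient.mk (Ideal.ofList rs₂)))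
  haveI : IsClosedImmersion m := IsClosedImmersion.spec_of_surjective _ Ideal.Quotient.mk_surjective
  have hiV : (m ≫ e.hom) ≫ V.ι = m ≫ a ≫ c.j := by
    rw [Category.assoc, Scheme.Hom.isoOpensRange_hom_ι]
  have hcomp : (m ≫ e.hom) ≫ V.ι ≫ f = Spec.map (CommRingCat.ofHom (algebraMap c.A D)) ≫ c.i := by
    rw [← Category.assoc, hiV, Category.assoc, Category.assoc, c.w]
    simp only [m, a, ← Spec.map_comp_assoc, ← CommRingCat.ofHom_comp]
  haveI : Flat (Spec.map (CommRingCat.ofHom (algebraMap c.A D))) :=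
    HasRingHomProperty.Spec_iff.2 (RingHom.flat_algebraMap_iff.2 hflat)
  haveI : LocallyQuasiFinite (Spec.map (CommRingCat.ofHom (algebraMap c.A D))) :=
    HasRingHomProperty.Spec_iff.2 (RingHom.quasiFinite_algebraMap.2 hqf)
  haveI : LocallyOfFinitePresentation (Spec.map (CommRingCat.ofHom (algebraMap c.A D))) :=
    HasRingHomProperty.Spec_iff.2 (RingHom.finitePresentation_algebraMap.2 ‹_›)
  have hpt : ∀ z : Spec (CommRingCat.of D), V.ι ((m ≫ e.hom) z) = c.j (a (m z)) := fun z => by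
    rw [← Scheme.Hom.comp_apply, hiV]
    rfl
  obtain ⟨hq1, hq2⟩ := Groth.Agent.CMSliceLib.under_away g' hg'
  have hJ : Ideal.ofList rs₂ ≤ c.q.asIdeal.map (algebraMap c.B B₂) := Ideal.span_le.2 fun z hz => by
    obtain ⟨r, hr, rfl⟩ := List.mem_map.1 hz
    exact Ideal.mem_map_of_mem _ (hrs r hr)
  let z₀ : Spec (CommRingCat.of D) := (⟨(c.q.asIdeal.map (algebraMap c.B B₂)).map (Ideal.Quotient.mk _),
    Ideal.map_isPrime_of_surjective Ideal.Quotient.mk_surjective (by rwa [Ideal.mk_ker])⟩ : PrimeSpectrum D)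
  have hz₀ : a (m z₀) = c.q := PrimeSpectrum.ext (by
    show Ideal.comap (algebraMap c.B B₂) (Ideal.comap (Ideal.Quotient.mk (Ideal.ofList rs₂))
      ((c.q.asIdeal.map (algebraMap c.B B₂)).map (Ideal.Quotient.mk (Ideal.ofList rs₂)))) = c.q.asIdeal
    rw [Ideal.comap_map_of_surjective _ Ideal.Quotient.mk_surjective, ← RingHom.ker_eq_comap_bot, Ideal.mk_ker,
      sup_eq_left.2 hJ]
    exact hq2)
  refine ⟨V, Spec (CommRingCat.of D), m ≫ e.hom, ⟨inferInstance, fun z => ?_⟩, ⟨z₀, ?_⟩, ?_, ?_, ?_, fun z hz => ?_⟩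
  · haveI : IsIso e.hom.appTop := inferInstanceAs (IsIso (e.hom.app ⊤))
    let E : Γ((V : Scheme.{u}), ⊤) ≃+* B₂ :=
      (asIso e.hom.appTop ≪≫ Scheme.ΓSpecIso (CommRingCat.of B₂)).commRingCatIsoToRingEquiv
    refine ⟨⊤, isAffineOpen_top _, trivial, rs₂.map E.symm, ?_, ?_⟩
    · have hne : (⊤ : Submodule B₂ B₂) ≠ Ideal.ofList rs₂ • (⊤ : Submodule B₂ B₂) := by
        rw [smul_eq_mul, Ideal.mul_top]
        exact fun h => hq1.ne_top (top_le_iff.1 (h.le.trans hJ))
      refine (AddEquiv.isRegular_congr (e := E.symm.toAddEquiv) ?_).1 ⟨hreg, hne⟩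
      exact List.forall₂_map_right_iff.2 (List.forall₂_same.2 fun r _ y => map_mul E.symm r y)
    · haveI : QuasiCompact (m ≫ e.hom) := inferInstance
      rw [Scheme.Hom.ker_apply]
      refine Eq.trans ?_ (Ideal.map_ofList E.symm.toRingHom rs₂)
      refine Eq.trans ?_ (Ideal.map_symm (f := E)).symm
      ext y
      rw [Ideal.mem_comap]
      refine Iff.trans ?_ Ideal.Quotient.eq_zero_iff_mem
      have hn := congrArg (fun t => t (e.hom.appTop y)) (Scheme.ΓSpecIso_naturality (CommRingCat.ofHom (Ideal.Quotient.mk (Ideal.ofList rs₂))))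
      simp only [CommRingCat.comp_apply] at hn
      rw [RingHom.mem_ker]
      show m.appTop (e.hom.appTop y) = 0 ↔ Ideal.Quotient.mk (Ideal.ofList rs₂) ((Scheme.ΓSpecIso (CommRingCat.of B₂)).hom (e.hom.appTop y)) = 0
      rw [← map_eq_zero_iff _ (ConcreteCategory.bijective_of_isIso (Scheme.ΓSpecIso (CommRingCat.of D)).hom).1]
      exact Eq.congr_left hn
  · rw [Scheme.Hom.comp_apply, hpt, hz₀, c.hq]
  · rw [hcomp]; infer_instance
  · rw [hcomp]; infer_instance
  · rw [hcomp]; infer_instance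
  · let P : PrimeSpectrum c.B := a (m z)
    have hP' : P.asIdeal.under c.A = c.p.asIdeal := by
      have h1 : c.i (PrimeSpectrum.comap (algebraMap c.A c.B) P) = c.i c.p := by
        rw [← c.apply_j, c.hp]
        exact (congrArg f (hpt z)).symm.trans hz
      exact congrArg PrimeSpectrum.asIdeal (c.i.isOpenEmbedding.injective h1)
    have hgP : g' ∉ P.asIdeal := fun h => (m z).isPrime.ne_top
      ((m z).asIdeal.eq_top_of_isUnit_mem h (IsLocalization.Away.algebraMap_isUnit g'))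
    have hrP : ∀ r ∈ rs, r ∈ P.asIdeal := fun r hr => by
      show Ideal.Quotient.mk (Ideal.ofList rs₂) (algebraMap c.B B₂ r) ∈ z.asIdeal
      rw [(Ideal.Quotient.eq_zero_iff_mem (I := Ideal.ofList rs₂)).2 (Ideal.subset_span (List.mem_map.2 ⟨r, hr, rfl⟩ : algebraMap c.B B₂ r ∈ rs₂))]
      exact zero_mem _
    rw [hpt, show a (m z) = c.q from PrimeSpectrum.ext (honly P hgP hrP hP'), c.hq]

/-- A flat morphism locally of finite presentation has a flat quasi-finite quasi-section over any point of its image. -/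
theorem exists_qf_section {X S : Scheme.{u}} (f : X ⟶ S) [Flat f] [LocallyOfFinitePresentation f] (s : S) (hs : s ∈ Set.range f) :
    ∃ (Z : Scheme.{u}) (r : Z ⟶ X), IsAffine Z ∧ Flat (r ≫ f) ∧ LocallyOfFinitePresentation (r ≫ f) ∧
      LocallyQuasiFinite (r ≫ f) ∧ s ∈ Set.range (r ≫ f) := by
  haveI : LocallyOfFiniteType f := inferInstance
  have hU : IsOpen ((f.fiberι s) ⁻¹' {x : X | MoreMor.IsCMAt f x}) :=
    (CMFlatLib.isOpen_isCMAt f).preimage (f.fiberι s).continuous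
  obtain ⟨x₀, rfl⟩ := hs
  have hne : ((f.fiberι (f x₀)) ⁻¹' {x : X | MoreMor.IsCMAt f x}).Nonempty :=
    haveI : Nonempty ↥(f.fiber (f x₀)) := ⟨f.asFiber x₀⟩
    (CMFlatLib.dense_isCMAt f (f x₀)).nonempty
  haveI : LocallyOfFiniteType (Y := Spec (CommRingCat.of (S.residueField (f x₀)))) (f.fiberToSpecResidueField (f x₀)) :=
    MorphismProperty.pullback_snd _ _ inferInstance
  haveI := LocallyOfFiniteType.jacobsonSpace (Y := Spec (CommRingCat.of (S.residueField (f x₀)))) (f.fiberToSpecResidueField (f x₀))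
  obtain ⟨z, hz, hzc⟩ := nonempty_inter_closedPoints hne hU.isLocallyClosed
  have hx : f (f.fiberι (f x₀) z) = f x₀ := by
    have hz' : f.fiberι (f x₀) z ∈ Set.range (f.fiberι (f x₀)) := ⟨z, rfl⟩
    rw [f.range_fiberι] at hz'
    exact hz'
  have key : ∀ s' : S, f x₀ = s' → ∀ x : X, f x = s' → MoreMor.IsCMAt f x → IsClosed ({f.asFiber x} : Set _) →
      ∃ (Z : Scheme.{u}) (r : Z ⟶ X), IsAffine Z ∧ Flat (r ≫ f) ∧ LocallyOfFinitePresentation (r ≫ f) ∧
        LocallyQuasiFinite (r ≫ f) ∧ s' ∈ Set.range (r ≫ f) := by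
    rintro s' - x rfl hcm hcl
    obtain ⟨V, Z, i, -, ⟨w, hw⟩, h1, h2, h3, -⟩ := exists_slice_scheme f x hcm hcl
    obtain ⟨_, ⟨W, hW, rfl⟩, hwW, -⟩ := Z.isBasis_affineOpens.exists_subset_of_mem_open (Set.mem_univ w) isOpen_univ
    haveI := h1; haveI := h2; haveI := h3
    let W' : Z.Opens := W
    refine ⟨W', W'.ι ≫ i ≫ V.ι, hW, ?_, ?_, ?_, ⟨⟨w, hwW⟩, ?_⟩⟩
    · rw [Category.assoc, Category.assoc]; infer_instance
    · rw [Category.assoc, Category.assoc]; infer_instance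
    · rw [Category.assoc, Category.assoc]; infer_instance
    · simp only [Scheme.Hom.comp_apply]
      exact congrArg f hw
  refine key _ rfl _ hx hz ?_
  have hinj : Function.Injective (f.fiberι (f x₀)) := (f.fiberι (f x₀)).isEmbedding.injective
  have : ∀ (s' : S) (hs' : f (f.fiberι (f x₀) z) = s'), f x₀ = s' → IsClosed ({f.asFiber (f.fiberι (f x₀) z)} : Set _) := by
    intro s' _ _
    have h := hzc
    rw [mem_closedPoints_iff] at h
    have gen : ∀ (s₁ : S) (he : s₁ = f (f.fiberι (f x₀) z)) (z₁ : f.fiber s₁), f.fiberι s₁ z₁ = f.fiberι (f x₀) z →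
        IsClosed ({z₁} : Set _) → IsClosed ({f.asFiber (f.fiberι (f x₀) z)} : Set _) := by
      rintro _ rfl z₁ hz₁ hcl
      rwa [(f.fiberι _).isEmbedding.injective (hz₁.trans (f.fiberι_asFiber _).symm)] at hcl
    exact gen (f x₀) hx.symm z rfl h
  exact this _ rfl hx.symm

theorem isIso_residueFieldMap_of_section {T S : Scheme.{u}} (g : T ⟶ S) (s : S) (σ : Spec (S.residueField s) ⟶ T)
    (hσ : σ ≫ g = S.fromSpecResidueField s) :
    g (σ (IsLocalRing.closedPoint _)) = s ∧ IsIso (g.residueFieldMap (σ (IsLocalRing.closedPoint _))) := by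
  set o := IsLocalRing.closedPoint (S.residueField s)
  refine ⟨by rw [← Scheme.Hom.comp_apply, hσ, Scheme.fromSpecResidueField_apply], ?_⟩
  have hsurj : Function.Surjective ((σ ≫ g).residueFieldMap o) := by
    rw [Scheme.Hom.residueFieldMap_congr hσ]
    have h : Function.Surjective ((S.fromSpecResidueField s).residueFieldMap o) := by
      intro y
      obtain ⟨y, rfl⟩ := Scheme.residue_surjective _ _ y
      obtain ⟨x, rfl⟩ := (S.fromSpecResidueField s).stalkMap_surjective o y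
      exact ⟨S.residue _ x, congrArg (fun t => t x) (Scheme.residue_residueFieldMap (S.fromSpecResidueField s) o)⟩
    intro y
    obtain ⟨x, hx⟩ := h y
    obtain ⟨x', rfl⟩ := (ConcreteCategory.bijective_of_isIso (S.residueFieldCongr (congrArg (fun h : Spec (S.residueField s) ⟶ S => h o) hσ)).hom).2 x
    exact ⟨x', hx⟩
  rw [Scheme.residueFieldMap_comp] at hsurj
  refine (ConcreteCategory.isIso_iff_bijective _).2 ⟨(g.residueFieldMap _).hom.injective, fun y => ?_⟩
  obtain ⟨x, hx⟩ := hsurj (σ.residueFieldMap o y)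
  exact ⟨x, (σ.residueFieldMap o).hom.injective hx⟩

/-- Étale-locally at a point, with trivial residue extension, a finite flat surjective section exists. -/
theorem exists_etale_finite_flat_section {X S : Scheme.{u}} (f : X ⟶ S) [Flat f] [LocallyOfFinitePresentation f] (s : S)
    (hs : s ∈ Set.range f) :
    ∃ (S' V : Scheme.{u}) (e : S' ⟶ S) (π : V ⟶ S') (r : V ⟶ X) (y : S'), Etale e ∧ e y = s ∧ IsIso (e.residueFieldMap y) ∧
      Surjective π ∧ IsFinite π ∧ Flat π ∧ LocallyOfFinitePresentation π ∧ r ≫ f = π ≫ e := by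
  obtain ⟨Z, r₀, hZ, h1, h2, h3, ⟨z, rfl⟩⟩ := exists_qf_section f s hs
  haveI := hZ; haveI := h1; haveI := h2; haveI := h3
  haveI : LocallyOfFiniteType (r₀ ≫ f) := inferInstance
  obtain ⟨T, g, σ, V, v, hg, hσ, hv, hfin, -, hsnd, -, -⟩ :=
    EtaleSplit.exists_split_point (r₀ ≫ f) z ((r₀ ≫ f).quasiFiniteAt z)
  haveI := hg; haveI := hfin
  let π₀ : (V : Scheme.{u}) ⟶ T := V.ι ≫ pullback.snd (r₀ ≫ f) g
  haveI : Flat π₀ := inferInstance
  haveI : LocallyOfFinitePresentation π₀ := inferInstance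
  haveI : IsFinite π₀ := hfin
  let U : T.Opens := ⟨Set.range π₀, π₀.isOpenMap.isOpen_range⟩
  obtain ⟨h4, h5⟩ := isIso_residueFieldMap_of_section g ((r₀ ≫ f) z) σ hσ
  have hy : σ (IsLocalRing.closedPoint _) ∈ U := ⟨⟨v, hv⟩, hsnd⟩
  haveI : IsIso (g.residueFieldMap (σ (IsLocalRing.closedPoint _))) := h5
  refine ⟨U, π₀ ⁻¹ᵁ U, U.ι ≫ g, π₀ ∣_ U, (π₀ ⁻¹ᵁ U).ι ≫ V.ι ≫ pullback.fst (r₀ ≫ f) g ≫ r₀, ⟨_, hy⟩,
    inferInstance, h4, ?_, ⟨?_⟩, inferInstance, inferInstance, inferInstance, ?_⟩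
  · rw [Scheme.residueFieldMap_comp]
    exact @IsIso.comp_isIso _ _ _ _ _ _ _ h5 inferInstance
  · rintro ⟨_, a, rfl⟩
    exact ⟨⟨a, a, rfl⟩, Subtype.ext (morphismRestrict_base_coe π₀ U ⟨a, a, rfl⟩)⟩
  · simp only [Category.assoc]
    rw [morphismRestrict_ι_assoc, pullback.condition]
    simp [π₀]

end Groth.Agent.CMSliceLib
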