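import Groth.Agent.CMFlatLib.Affine
import Groth.Agent.CMSliceLib.Poly

/-!
Cutting a flat quasi-finite algebra over affine space down to a flat quasi-finite algebra over the base.
-/

set_option autoImplicit false

universe u

open TensorProduct RingTheory.Sequence

attribute [local instance] MvPolynomial.algebraMvPolynomial

namespace Groth.Agent.CMSliceLib

variable {A : Type u} [CommRing A] {B : Type u} [CommRing B] [Algebra A B]

/-- At a closed point of the fibre every element satisfies, after scaling, a monic equation. -/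
theorem exists_monic_mem [Algebra.FiniteType A B] (p : Ideal A) [p.IsPrime] (q : Ideal B) (Q : PrimeSpectrum (p.Fiber B))
    (hQ : Q.asIdeal.comap (Algebra.TensorProduct.includeRight : B →ₐ[A] p.Fiber B).toRingHom = q)
    (hmax : Q.asIdeal.IsMaximal) (y : B) :
    ∃ (a : A) (R : Polynomial A), a ∉ p ∧ R.Monic ∧ 0 < R.natDegree ∧ Polynomial.aeval (algebraMap A B a * y) R ∈ q := by
  haveI := hmax
  letI := Ideal.Quotient.field Q.asIdeal
  haveI : Algebra.FiniteType p.ResidueField (p.Fiber B ⧸ Q.asIdeal) :=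
    .of_surjective (Ideal.Quotient.mkₐ p.ResidueField Q.asIdeal) Ideal.Quotient.mk_surjective
  haveI := finite_of_finite_type_of_isJacobsonRing p.ResidueField (p.Fiber B ⧸ Q.asIdeal)
  let f : B →+* p.Fiber B ⧸ Q.asIdeal :=
    (Ideal.Quotient.mk Q.asIdeal).comp (Algebra.TensorProduct.includeRight : B →ₐ[A] p.Fiber B).toRingHom
  let g : A ⧸ p →+* p.Fiber B ⧸ Q.asIdeal :=
    (algebraMap p.ResidueField (p.Fiber B ⧸ Q.asIdeal)).comp (algebraMap (A ⧸ p) p.ResidueField)
  have hf : f.comp (algebraMap A B) = g.comp (Ideal.Quotient.mk p) := RingHom.ext fun a => by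
    show Ideal.Quotient.mk Q.asIdeal ((Algebra.TensorProduct.includeRight : B →ₐ[A] p.Fiber B) (algebraMap A B a)) = _
    rw [AlgHom.commutes, IsScalarTower.algebraMap_apply A p.ResidueField (p.Fiber B) a]
    rfl
  obtain ⟨μ, hμ, hμ0⟩ := Algebra.IsIntegral.isIntegral (R := p.ResidueField) (f y)
  let m := IsLocalization.commonDenom (nonZeroDivisors (A ⧸ p)) μ.support μ.coeff
  have hlift : Polynomial.scaleRoots μ (algebraMap (A ⧸ p) p.ResidueField m) ∈
      Polynomial.lifts (algebraMap (A ⧸ p) p.ResidueField) :=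
    IsLocalization.scaleRoots_commonDenom_mem_lifts (nonZeroDivisors (A ⧸ p)) μ (by rw [hμ.leadingCoeff]; exact one_mem _)
  obtain ⟨Rb, hRb', -, hRb⟩ := Polynomial.lifts_and_natDegree_eq_and_monic hlift ((Polynomial.monic_scaleRoots_iff _).2 hμ)
  obtain ⟨a, ha⟩ := Ideal.Quotient.mk_surjective (m : A ⧸ p)
  obtain ⟨R, hR, -, hRm⟩ := Polynomial.lifts_and_natDegree_eq_and_monic
    ((Polynomial.lifts_iff_coeff_lifts Rb).2 fun _ => Ideal.Quotient.mk_surjective _) hRb
  haveI : Nontrivial A := ⟨⟨1, 0, fun h => ‹p.IsPrime›.ne_top (p.eq_top_iff_one.2 (h ▸ p.zero_mem))⟩⟩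
  refine ⟨a, R * Polynomial.X, fun hap => nonZeroDivisors.ne_zero m.2 (ha.symm.trans (Ideal.Quotient.eq_zero_iff_mem.2 hap)),
    hRm.mul Polynomial.monic_X, ?_, ?_⟩
  · rw [hRm.natDegree_mul Polynomial.monic_X, Polynomial.natDegree_X]; omega
  rw [map_mul]
  refine q.mul_mem_right _ (hQ.le (Ideal.mem_comap.2 (Ideal.Quotient.eq_zero_iff_mem.1 ?_)))
  show f (Polynomial.aeval (algebraMap A B a * y) R) = 0
  rw [Polynomial.aeval_def, Polynomial.hom_eval₂, hf, ← Polynomial.eval₂_map, hR,
    map_mul, show f (algebraMap A B a) = g (m : A ⧸ p) from (RingHom.congr_fun hf a).trans (congrArg g ha)]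
  show Rb.eval₂ ((algebraMap p.ResidueField _).comp (algebraMap (A ⧸ p) p.ResidueField)) _ = 0
  rw [← Polynomial.eval₂_map, hRb']
  exact Polynomial.scaleRoots_eval₂_eq_zero _ hμ0

theorem isIntegral_of_X {n : ℕ} (P : Fin n → Polynomial A) (hP : ∀ i, (P i).Monic ∧ 0 < (P i).natDegree) :
    (MvPolynomial.aeval (R := A) fun i => Polynomial.aeval (MvPolynomial.X i : MvPolynomial (Fin n) A) (P i)).toRingHom.IsIntegral := by
  intro z
  induction z using MvPolynomial.induction_on with
  | C a => exact (show _ = MvPolynomial.C a from MvPolynomial.aeval_C _ a) ▸ RingHom.isIntegralElem_map _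
  | add z w hz hw => exact hz.add _ hw
  | mul_X z i hz =>
    refine hz.mul _ ⟨(P i).map MvPolynomial.C - Polynomial.C (MvPolynomial.X i), ?_, ?_⟩
    · rcases subsingleton_or_nontrivial A with hA | hA
      · exact Subsingleton.elim _ _
      exact ((hP i).1.map _).sub_of_left (Polynomial.degree_C_le.trans_lt (by
        rw [(hP i).1.degree_map, Polynomial.degree_eq_natDegree (hP i).1.ne_zero]
        exact_mod_cast (hP i).2))
    · rw [Polynomial.eval₂_sub, Polynomial.eval₂_map, Polynomial.eval₂_C, sub_eq_zero]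
      refine ((Polynomial.eval₂_congr (RingHom.ext fun a => MvPolynomial.aeval_C _ a) rfl rfl).trans ?_)
      exact (MvPolynomial.aeval_X (R := A) (fun i => Polynomial.aeval (MvPolynomial.X i : MvPolynomial (Fin n) A) (P i)) i).symm

variable {n : ℕ} (y : Fin n → B) (a : Fin n → A) (R : Fin n → Polynomial A)

theorem exists_psi (hR : ∀ i, (R i).Monic ∧ 0 < (R i).natDegree) (hu : ∀ i, IsUnit (algebraMap A B (a i)))
    (hflat : (MvPolynomial.aeval (R := A) y).toRingHom.Flat) (hqf : (MvPolynomial.aeval (R := A) y).toRingHom.QuasiFinite) :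
    ∃ ψ : MvPolynomial (Fin n) A →+* B, ψ.Flat ∧ ψ.QuasiFinite ∧ ψ.comp MvPolynomial.C = algebraMap A B ∧
      ∀ i, ψ (MvPolynomial.X i) = Polynomial.aeval (algebraMap A B (a i) * y i) (R i) := by
  classical
  let c : A := ∏ i, a i
  let A' := Localization.Away c
  have hc : IsUnit (algebraMap A B c) := by
    rw [map_prod]
    exact IsUnit.prod_univ_iff.2 hu
  let ι : A' →+* B := IsLocalization.Away.lift c hc
  have hι : ι.comp (algebraMap A A') = algebraMap A B := IsLocalization.Away.lift_comp c hc
  have hua : ∀ i, IsUnit (algebraMap A A' (a i)) := fun i =>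
    isUnit_of_dvd_unit ((algebraMap A A').map_dvd (Finset.dvd_prod_of_mem a (Finset.mem_univ i)))
      (IsLocalization.Away.algebraMap_isUnit c)
  letI algC : Algebra (MvPolynomial (Fin n) A) B := (MvPolynomial.aeval (R := A) y).toRingHom.toAlgebra
  let φ' : MvPolynomial (Fin n) A' →+* B := MvPolynomial.eval₂Hom ι y
  letI algC' : Algebra (MvPolynomial (Fin n) A') B := φ'.toAlgebra
  haveI : IsScalarTower (MvPolynomial (Fin n) A) (MvPolynomial (Fin n) A') B :=
    .of_algebraMap_eq' (MvPolynomial.ringHom_ext (fun r => by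
      show MvPolynomial.aeval y (MvPolynomial.C r) = φ' (MvPolynomial.map (algebraMap A A') (MvPolynomial.C r))
      simp [φ', ← hι]) fun i => by
      show MvPolynomial.aeval y (MvPolynomial.X i) = φ' (MvPolynomial.map (algebraMap A A') (MvPolynomial.X i))
      simp [φ'])
  haveI := MvPolynomial.isLocalization (σ := Fin n) (Submonoid.powers c) A'
  have hflat' : φ'.Flat := (Module.flat_iff_of_isLocalization (MvPolynomial (Fin n) A')
    ((Submonoid.powers c).map MvPolynomial.C) B).2 hflat
  have hqf' : φ'.QuasiFinite := by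
    haveI : Algebra.QuasiFinite (MvPolynomial (Fin n) A) B := hqf
    exact Algebra.QuasiFinite.of_restrictScalars (MvPolynomial (Fin n) A) (MvPolynomial (Fin n) A') B
  let τ : MvPolynomial (Fin n) A →+* MvPolynomial (Fin n) A :=
    (MvPolynomial.aeval (R := A) fun i => Polynomial.aeval (MvPolynomial.X i : MvPolynomial (Fin n) A) (R i)).toRingHom
  let L : MvPolynomial (Fin n) A →+* MvPolynomial (Fin n) A' := algebraMap _ _
  let e₁ : MvPolynomial (Fin n) A' →+* MvPolynomial (Fin n) A' :=
    MvPolynomial.eval₂Hom MvPolynomial.C fun i => MvPolynomial.C (algebraMap A A' (a i)) * MvPolynomial.X i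
  let e₂ : MvPolynomial (Fin n) A' →+* MvPolynomial (Fin n) A' :=
    MvPolynomial.eval₂Hom MvPolynomial.C fun i => MvPolynomial.C (((hua i).unit⁻¹ : A'ˣ) : A') * MvPolynomial.X i
  have he : Function.Bijective e₁ := by
    have h₁ : e₁.comp e₂ = RingHom.id _ := MvPolynomial.ringHom_ext (fun r => by simp [e₁, e₂]) fun i => by
      simp only [RingHom.comp_apply, e₁, e₂, MvPolynomial.eval₂Hom_X', map_mul, MvPolynomial.eval₂Hom_C, RingHom.id_apply]
      rw [← mul_assoc, ← map_mul, IsUnit.val_inv_mul, map_one, one_mul]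
    have h₂ : e₂.comp e₁ = RingHom.id _ := MvPolynomial.ringHom_ext (fun r => by simp [e₁, e₂]) fun i => by
      simp only [RingHom.comp_apply, e₁, e₂, MvPolynomial.eval₂Hom_X', map_mul, MvPolynomial.eval₂Hom_C, RingHom.id_apply]
      rw [← mul_assoc, ← map_mul, IsUnit.mul_val_inv, map_one, one_mul]
    exact ⟨Function.LeftInverse.injective (g := e₂) fun z => RingHom.congr_fun h₂ z,
      Function.RightInverse.surjective (g := e₂) fun z => RingHom.congr_fun h₁ z⟩
  let ψ : MvPolynomial (Fin n) A →+* B := φ'.comp (e₁.comp (L.comp τ))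
  have hψflat : ψ.Flat := by
    haveI : Module.Flat (MvPolynomial (Fin n) A) (MvPolynomial (Fin n) A') :=
      IsLocalization.flat _ ((Submonoid.powers c).map MvPolynomial.C)
    exact (((flat_aeval n R hR).comp (RingHom.flat_algebraMap_iff.2 this)).comp (RingHom.Flat.of_bijective he)).comp hflat'
  have hψqf : ψ.QuasiFinite := by
    refine hqf'.comp ((RingHom.QuasiFinite.of_finite (RingHom.Finite.of_surjective _ he.2)).comp ?_)
    refine RingHom.QuasiFinite.comp (RingHom.quasiFinite_algebraMap.2
      (Algebra.QuasiFinite.of_isLocalization (R := MvPolynomial (Fin n) A) (S := MvPolynomial (Fin n) A)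
        ((Submonoid.powers c).map MvPolynomial.C))) ?_
    refine RingHom.QuasiFinite.of_finite (RingHom.IsIntegral.to_finite (isIntegral_of_X R hR) ?_)
    exact RingHom.FiniteType.of_comp_finiteType (f := MvPolynomial.C) (by
      rw [show τ.comp MvPolynomial.C = MvPolynomial.C from RingHom.ext fun r => MvPolynomial.aeval_C _ r]
      exact RingHom.finiteType_algebraMap.2 inferInstance)
  have hψX : ∀ i, ψ (MvPolynomial.X i) = Polynomial.aeval (algebraMap A B (a i) * y i) (R i) := fun i => by
    show φ' (e₁ (L (MvPolynomial.aeval _ (MvPolynomial.X i)))) = _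
    rw [MvPolynomial.aeval_X]
    show ((φ'.comp e₁).comp L) _ = _
    rw [Polynomial.aeval_def, Polynomial.hom_eval₂, Polynomial.aeval_def]
    congr 1
    · refine RingHom.ext fun r => ?_
      show φ' (e₁ (MvPolynomial.map (algebraMap A A') (MvPolynomial.C r))) = _
      simp [φ', e₁, ← hι]
    · show φ' (e₁ (MvPolynomial.map (algebraMap A A') (MvPolynomial.X i))) = _
      simp [φ', e₁, ← hι]
  have hψC : ψ.comp MvPolynomial.C = algebraMap A B := RingHom.ext fun r => by
    show φ' (e₁ (L (MvPolynomial.aeval _ (MvPolynomial.C r)))) = _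
    rw [MvPolynomial.aeval_C, MvPolynomial.algebraMap_eq]
    show φ' (e₁ (MvPolynomial.map (algebraMap A A') (MvPolynomial.C r))) = _
    simp [φ', e₁, ← hι]
  exact ⟨ψ, hψflat, hψqf, hψC, hψX⟩

/-- Flatness and quasi-finiteness pass to the fibre over a section. -/
theorem flat_qf_quot {C B : Type u} [CommRing C] [CommRing B] [Algebra C B] [Algebra A B] (c : A →+* C)
    (hc : (algebraMap C B).comp c = algebraMap A B) (I : Ideal C) (hbij : Function.Bijective ((Ideal.Quotient.mk I).comp c))
    [Module.Flat C B] [Algebra.QuasiFinite C B] :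
    Module.Flat A (B ⧸ I.map (algebraMap C B)) ∧ Algebra.QuasiFinite A (B ⧸ I.map (algebraMap C B)) := by
  let E := Algebra.TensorProduct.quotIdealMapEquivQuotTensor B I
  have h1 : Module.Flat (C ⧸ I) (B ⧸ I.map (algebraMap C B)) := Module.Flat.of_linearEquiv E.toLinearEquiv
  have h2 : Algebra.QuasiFinite (C ⧸ I) (B ⧸ I.map (algebraMap C B)) :=
    Algebra.QuasiFinite.of_surjective_algHom E.symm.toAlgHom E.symm.surjective
  have hcomp : algebraMap A (B ⧸ I.map (algebraMap C B)) =
      (algebraMap (C ⧸ I) (B ⧸ I.map (algebraMap C B))).comp ((Ideal.Quotient.mk I).comp c) := RingHom.ext fun r =>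
    congrArg (Ideal.Quotient.mk (I.map (algebraMap C B))) (RingHom.congr_fun hc r).symm
  rw [← RingHom.flat_algebraMap_iff, ← RingHom.quasiFinite_algebraMap, hcomp]
  exact ⟨(RingHom.Flat.of_bijective hbij).comp (RingHom.flat_algebraMap_iff.2 h1),
    (RingHom.quasiFinite_algebraMap.2 h2).comp (RingHom.QuasiFinite.of_finite (RingHom.Finite.of_surjective _ hbij.2))⟩

theorem bijective_mk_C (I : Ideal (MvPolynomial (Fin n) A)) (hI0 : I = Ideal.ofList (List.ofFn fun i : Fin n => (MvPolynomial.X i : MvPolynomial (Fin n) A))) :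
    Function.Bijective ((Ideal.Quotient.mk I).comp MvPolynomial.C) := by
  subst hI0
  set I : Ideal (MvPolynomial (Fin n) A) := Ideal.ofList (List.ofFn fun i => MvPolynomial.X i)
  have hI : I = RingHom.ker (MvPolynomial.constantCoeff (σ := Fin n) (R := A)) := by
    refine le_antisymm (Ideal.span_le.2 fun z hz => ?_) fun z hz => ?_
    · obtain ⟨i, rfl⟩ := List.mem_ofFn.1 hz
      exact MvPolynomial.constantCoeff_X (R := A) i
    · have key : ∀ w : MvPolynomial (Fin n) A, w - MvPolynomial.C (MvPolynomial.constantCoeff w) ∈ I := fun w => by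
        induction w using MvPolynomial.induction_on with
        | C r => simp
        | add w w' hw hw' => rw [map_add, map_add, add_sub_add_comm]; exact add_mem hw hw'
        | mul_X w i _ =>
          rw [map_mul, MvPolynomial.constantCoeff_X, mul_zero, map_zero, sub_zero]
          exact Ideal.mul_mem_left _ _ (Ideal.subset_span (List.mem_ofFn.2 ⟨i, rfl⟩))
      have h := key z
      rwa [RingHom.mem_ker.1 hz, map_zero, sub_zero] at h
  have hbij : Function.Bijective ((Ideal.Quotient.mk I).comp MvPolynomial.C) := by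
    refine ⟨fun r s h => ?_, fun z => ?_⟩
    · have h' := Ideal.Quotient.eq.1 h
      rw [hI, RingHom.mem_ker, map_sub, MvPolynomial.constantCoeff_C, MvPolynomial.constantCoeff_C, sub_eq_zero] at h'
      exact h'
    · obtain ⟨z, rfl⟩ := Ideal.Quotient.mk_surjective z
      refine ⟨MvPolynomial.constantCoeff z, Ideal.Quotient.eq.2 ?_⟩
      rw [hI, RingHom.mem_ker, map_sub, MvPolynomial.constantCoeff_C, sub_self]
  exact hbij

theorem slice (hR : ∀ i, (R i).Monic ∧ 0 < (R i).natDegree) (hu : ∀ i, IsUnit (algebraMap A B (a i)))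
    (hflat : (MvPolynomial.aeval (R := A) y).toRingHom.Flat) (hqf : (MvPolynomial.aeval (R := A) y).toRingHom.QuasiFinite) :
    IsWeaklyRegular B (List.ofFn fun i => Polynomial.aeval (algebraMap A B (a i) * y i) (R i)) ∧
      Module.Flat A (B ⧸ Ideal.ofList (List.ofFn fun i => Polynomial.aeval (algebraMap A B (a i) * y i) (R i))) ∧
      Algebra.QuasiFinite A (B ⧸ Ideal.ofList (List.ofFn fun i => Polynomial.aeval (algebraMap A B (a i) * y i) (R i))) := by
  obtain ⟨ψ, hf, hq, hψC, hψX⟩ := exists_psi y a R hR hu hflat hqf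
  letI algψ : Algebra (MvPolynomial (Fin n) A) B := ψ.toAlgebra
  haveI : Module.Flat (MvPolynomial (Fin n) A) B := hf
  haveI : Algebra.QuasiFinite (MvPolynomial (Fin n) A) B := hq
  have hlist : (List.ofFn fun i => Polynomial.aeval (algebraMap A B (a i) * y i) (R i)) =
      (List.ofFn fun i => (MvPolynomial.X i : MvPolynomial (Fin n) A)).map (algebraMap (MvPolynomial (Fin n) A) B) := by
    rw [List.map_ofFn]
    exact congrArg List.ofFn (funext fun i => (hψX i).symm)
  rw [hlist, ← Ideal.map_ofList]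
  exact ⟨(isWeaklyRegular_X A n).of_flat (S := B), flat_qf_quot MvPolynomial.C hψC _ (bijective_mk_C _ rfl)⟩

end Groth.Agent.CMSliceLib
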